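import Groth.Agent.Lib.PnDualExtPn
import Groth.Agent.S0844

/-!
# Splitting of extensions of twisting sheaves on projective space
-/

universe u

set_option backward.isDefEq.respectTransparency false
set_option backward.isDefEq.respectTransparency.types false
set_option linter.style.haveILetI false

open CategoryTheory CategoryTheory.Limits AlgebraicGeometry
open CategoryTheory.Abelian

namespace Groth.Agent.VB70

variable {k : Type u} [Field k] {n : ℕ}

instance hasExtModules (X : Scheme.{u}) : HasExt.{u} X.Modules :=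
  IsGrothendieckAbelian.hasExt (SheafOfModules.{u} X.ringCatSheaf)

/-- An extension with vanishing `Ext¹` splits. -/
theorem nonempty_splitting {C : Type*} [Category C] [Abelian C] [HasExt C] (S : ShortComplex C) (hS : S.ShortExact)
    [Subsingleton (Ext S.X₃ S.X₁ 1)] : Nonempty S.Splitting := by
  obtain ⟨x, hx⟩ := Ext.covariant_sequence_exact₃ S.X₃ hS (Ext.mk₀ (𝟙 S.X₃)) (zero_add 1) (Subsingleton.elim _ _)
  obtain ⟨s, rfl⟩ := (Ext.mk₀_bijective _ _).2 x
  rw [Ext.mk₀_comp_mk₀] at hx
  exact ⟨ShortComplex.Splitting.ofExactOfSection S hS.exact s ((Ext.mk₀_bijective _ _).1 hx) hS.mono_f⟩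

theorem subsingleton_ext_of_iso {C : Type*} [Category C] [Abelian C] [HasExt C] {A A' B B' : C} (e : A ≅ A') (e' : B ≅ B')
    (n : ℕ) [Subsingleton (Ext A' B' n)] : Subsingleton (Ext A B n) := by
  refine subsingleton_of_forall_eq 0 fun x => ?_
  have h := Subsingleton.elim ((Ext.mk₀ e.inv).comp (x.comp (Ext.mk₀ e'.hom) (add_zero n)) (zero_add n)) 0
  have h' := congrArg (fun y => ((Ext.mk₀ e.hom).comp y (zero_add n)).comp (Ext.mk₀ e'.inv) (add_zero n)) h
  simpa using h'

theorem subsingleton_ext_one_twist (hn : 2 ≤ n) (a b : ℤ) :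
    Subsingleton (Ext (Twist.twistProjSpace n k b) (Twist.twistProjSpace n k a) 1) :=
  PnDual.subsingleton_ext_twist (PnDual.coordsR k n) PnDual.coordsR_mem PnDual.coordsR_cover b a 1
    (S0844.result k n (a - b) 1 (fun h => absurd h.1 one_ne_zero) (fun h => by omega))

/-- An extension of twisting sheaves on `P^n`, `n ≥ 2`, splits. -/
theorem nonempty_splitting_twists (hn : 2 ≤ n) (a b : ℤ) (S : ShortComplex (CohB1.ProjSpace n k).Modules)
    (hS : S.ShortExact) (ea : S.X₁ ≅ Twist.twistProjSpace n k a) (eb : S.X₃ ≅ Twist.twistProjSpace n k b) :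
    Nonempty S.Splitting := by
  haveI := subsingleton_ext_one_twist (k := k) hn a b
  haveI : Subsingleton (Ext S.X₃ S.X₁ 1) :=
    subsingleton_ext_of_iso eb ea 1
  exact nonempty_splitting S hS

end Groth.Agent.VB70
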